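import Cfsg.Agent.Signalizer.Main
import Cfsg.Agent.Signalizer.Corollaries
import Cfsg.Agent.H85.ElemEight.Local
import Cfsg.Agent.H47.Delta
import Cfsg.Agent.Coprime.Commutator
import Cfsg.Agent.Coprime.Centralize
import Cfsg.Agent.Coprime.Generation
import Cfsg.Agent.H77.PPAb.Basic
import Cfsg.Agent.S0205

/-!
# A strongly closed elementary group of order eight: the final contradiction

`A` of order `8`, for every `a ∈ A#` a normal subgroup `P a` of `C(a)` over the core (the preimage
of the component met by `A`), and an involution `x ∉ A` centralising `A` and every `P a` modulo the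
core.  Balance follows, the closure of the cores is normalised by `C(e) ∩ C(x)`, and this is
impossible.
-/

set_option autoImplicit false
set_option linter.unusedSectionVars false
set_option linter.style.haveILetI false

namespace Cfsg.Agent.H77.StrongThree

open Subgroup Cfsg.Agent
open Cfsg.Agent.Coprime (relCentralizer mem_relCentralizer)
open Cfsg.Agent.H85.ElemEight (coreAt coreAt_le odd_card_coreAt conj_coreAt)
open scoped commutatorElement

universe u

variable {G : Type u} [Group G] [Finite G]

local instance fact_two : Fact (Nat.Prime 2) := ⟨Nat.prime_two⟩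

/-- The elements of `C(a)` centralising `P a` modulo the core. -/
noncomputable def trivOn (P : G → Subgroup G) (a : G) : Subgroup G :=
  relCentralizer (coreAt a) (P a) ⊓ centralizer ({a} : Set G)

/-- The configuration. -/
structure Data (A : Subgroup G) (x : G) (P : G → Subgroup G) : Prop where
  simple : IsSimpleGroup G
  gen : ∀ M : Subgroup G, (∀ a ∈ A, a ≠ 1 → centralizer ({a} : Set G) ≤ M) → M = ⊤
  elem : Cfsg.IsElementaryAbelian 2 A
  card : Nat.card A = 8
  x_cent : x ∈ centralizer (A : Set G)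
  x_two : orderOf x = 2
  x_not : x ∉ A
  P_le : ∀ a ∈ A, a ≠ 1 → P a ≤ centralizer ({a} : Set G)
  core_le : ∀ a ∈ A, a ≠ 1 → coreAt a ≤ P a
  P_norm : ∀ a ∈ A, a ≠ 1 → centralizer ({a} : Set G) ≤ normalizer (P a : Set G)
  P_conj : ∀ n ∈ normalizer (A : Set G), ∀ a ∈ A, a ≠ 1 → ∀ g ∈ P a,
    n * g * n⁻¹ ∈ P (n * a * n⁻¹)
  /-- `A` lies over `⟨a⟩` in `P a` -/
  split : ∀ a ∈ A, a ≠ 1 → A ≤ zpowers a ⊔ (A ⊓ P a)
  /-- `P a` modulo the core has no odd normal subgroup -/
  oddN : ∀ a ∈ A, a ≠ 1 → ∀ N : Subgroup G, N ≤ P a → Odd (Nat.card N) →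
    P a ≤ normalizer (N : Set G) → N ≤ coreAt a
  inf_triv : ∀ a ∈ A, a ≠ 1 → P a ⊓ trivOn P a ≤ coreAt a
  x_mem : ∀ a ∈ A, a ≠ 1 → x ∈ trivOn P a
  /-- the Frattini argument -/
  frat : ∀ a ∈ A, a ≠ 1 →
    centralizer ({a} : Set G) ≤ P a ⊔ (normalizer (A : Set G) ⊓ centralizer ({a} : Set G))
  /-- an odd subgroup of `C(a)` normalised by `C(a) ∩ C(b)` moving `A` trivially on `P a` -/
  crit : ∀ a ∈ A, a ≠ 1 → ∀ b ∈ A, b ∉ zpowers a → ∀ W : Subgroup G,
    W ≤ centralizer ({a} : Set G) → Odd (Nat.card W) →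
    centralizer ({a} : Set G) ⊓ centralizer ({b} : Set G) ≤ normalizer (W : Set G) →
    ⁅W, A⁆ ≤ trivOn P a → W ≤ coreAt a
  /-- the centraliser of `x` -/
  coreX : ∀ b ∈ A, b ≠ 1 → ∀ W : Subgroup G,
    W ≤ centralizer ({x} : Set G) ⊓ centralizer ({b} : Set G) → Odd (Nat.card W) →
    centralizer ({x} : Set G) ⊓ centralizer ({b} : Set G) ≤ normalizer (W : Set G) →
    ⁅W, A⁆ ≤ coreAt x
  /-- `e` is central modulo the core in `C(ex)` -/
  exc : ∀ e ∈ A, e ≠ 1 → ∀ g ∈ centralizer ({e * x} : Set G), ⁅g, e⁆ ∈ coreAt (e * x)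

theorem centralizer_le_normalizer_coreAt (a : G) :
    centralizer ({a} : Set G) ≤ normalizer (coreAt a : Set G) := by
  rw [le_normalizer_iff]
  exact fun c hc y hy => H85.ElemEight.conj_mem_coreAt hc hy

theorem not_two_dvd_coreAt (a : G) : ¬ 2 ∣ Nat.card (coreAt a) := fun h => by
  have h' := odd_card_coreAt (G := G) a
  rw [Nat.odd_iff] at h'
  omega

theorem le_normalizer_inf {U H K : Subgroup G} (h1 : U ≤ normalizer (H : Set G))
    (h2 : U ≤ normalizer (K : Set G)) : U ≤ normalizer ((H ⊓ K : Subgroup G) : Set G) :=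
  fun _ hg => inf_normalizer_le_normalizer_inf ⟨h1 hg, h2 hg⟩

theorem centralizer_le_normalizer_trivOn {P : G → Subgroup G} {a : G}
    (hP : centralizer ({a} : Set G) ≤ normalizer (P a : Set G)) :
    centralizer ({a} : Set G) ≤ normalizer (trivOn P a : Set G) := by
  rw [le_normalizer_iff]
  intro c hc g hg
  have hg1 := mem_relCentralizer.1 hg.1
  have hgc : c * g * c⁻¹ ∈ centralizer ({a} : Set G) :=
    Subgroup.mul_mem _ (Subgroup.mul_mem _ hc hg.2) (Subgroup.inv_mem _ hc)
  refine ⟨mem_relCentralizer.2 ⟨centralizer_le_normalizer_coreAt a hgc, fun h hh => ?_⟩, hgc⟩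
  have h1 := hg1.2 _ (Coprime.conj_mem' (hP hc) hh)
  have h2 := Coprime.conj_mem (centralizer_le_normalizer_coreAt a hc) h1
  simpa [commutatorElement_def, mul_assoc] using h2

namespace Data

variable {A : Subgroup G} {x : G} {P : G → Subgroup G} (D : Data A x P)
include D

theorem comm {a b : G} (ha : a ∈ A) (hb : b ∈ A) : Commute a b :=
  congrArg Subtype.val (D.elem.1.is_comm.comm ⟨a, ha⟩ ⟨b, hb⟩)

theorem le_cent {a : G} (ha : a ∈ A) : A ≤ centralizer ({a} : Set G) :=
  fun _ hb => mem_centralizer_singleton_iff.2 (D.comm hb ha).eq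

theorem x_comm {a : G} (ha : a ∈ A) : Commute a x := mem_centralizer_iff.1 D.x_cent a ha

theorem x_mem_cent {a : G} (ha : a ∈ A) : x ∈ centralizer ({a} : Set G) :=
  mem_centralizer_singleton_iff.2 (D.x_comm ha).symm.eq

theorem isPGroup_zpowers {a : G} (ha : a ∈ A) : IsPGroup 2 ↥(zpowers a) := fun y => by
  obtain ⟨i, hi⟩ := mem_zpowers_iff.1 y.2
  refine ⟨1, Subtype.ext ?_⟩
  have h2 := D.elem.2 (a ^ i) ((zpowers_le.2 ha) (mem_zpowers_iff.2 ⟨i, rfl⟩))
  simpa [hi] using h2

theorem coprime_zpowers_x {C : Subgroup G} (hC : Odd (Nat.card C)) :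
    (Nat.card (zpowers x)).Coprime (Nat.card C) := by
  rw [Nat.card_zpowers, D.x_two]
  exact Nat.coprime_two_left.2 hC

theorem coprime_zpowers {a : G} (ha : a ∈ A) {C : Subgroup G} (hC : Odd (Nat.card C)) :
    (Nat.card (zpowers a)).Coprime (Nat.card C) := by
  obtain ⟨n, hn⟩ := IsPGroup.iff_card.1 (D.isPGroup_zpowers ha)
  rw [hn]
  exact (Nat.coprime_two_left.2 hC).pow_left n

theorem coprime_A {C : Subgroup G} (hC : Odd (Nat.card C)) :
    (Nat.card A).Coprime (Nat.card C) := by
  rw [D.card, show (8 : ℕ) = 2 ^ 3 from rfl]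
  exact (Nat.coprime_two_left.2 hC).pow_left 3

theorem not_cyclic : ¬ IsCyclic A :=
  Fusion.Signalizer.not_isCyclic_of_elementary D.elem (by rw [D.card]; norm_num)

/-- The part of `P a` centralised by `x` covers `P a` modulo the core. -/
theorem exists_cover {a : G} (ha : a ∈ A) (ha1 : a ≠ 1) {g : G} (hg : g ∈ P a) :
    ∃ c ∈ P a ⊓ centralizer ({x} : Set G), ∃ k ∈ coreAt a, g = c * k := by
  have hgC := D.P_le a ha ha1 hg
  have hxK : zpowers x ≤ normalizer (coreAt a : Set G) :=
    zpowers_le.2 (centralizer_le_normalizer_coreAt a (D.x_mem_cent ha))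
  obtain ⟨n, hn, hgn⟩ := Coprime.exists_commute_mem_coset (p := 2)
    (IsPGroup.of_card (n := 1) (by rw [Nat.card_zpowers, D.x_two, pow_one]) :
      IsPGroup 2 ↥(zpowers x)) hxK (not_two_dvd_coreAt a) (k := g) fun y hy => by
    have h1 := (mem_relCentralizer.1 ((zpowers_le.2 (D.x_mem a ha ha1)) hy).1).2 g hg
    have h2 := Coprime.conj_mem' (centralizer_le_normalizer_coreAt a hgC) h1
    simpa [commutatorElement_def, mul_assoc] using h2
  refine ⟨g * n, ⟨mul_mem hg (D.core_le a ha ha1 hn), mem_centralizer_singleton_iff.2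
    (mem_centralizer_iff.1 hgn x (mem_zpowers x)).symm⟩, n⁻¹, inv_mem hn,
    (mul_inv_cancel_right g n).symm⟩

/-- An odd subgroup of `C(a)` normalised by `C(a) ∩ C(x)` is trivial on `P a`. -/
theorem le_trivOn {a : G} (ha : a ∈ A) (ha1 : a ≠ 1) {W : Subgroup G}
    (hW : W ≤ centralizer ({a} : Set G)) (hodd : Odd (Nat.card W))
    (hn : centralizer ({a} : Set G) ⊓ centralizer ({x} : Set G) ≤ normalizer (W : Set G)) :
    W ≤ trivOn P a := by
  set U := W ⊔ coreAt a with hUdef
  have hUC : U ≤ centralizer ({a} : Set G) := sup_le hW (coreAt_le a)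
  have hU : Odd (Nat.card U) := Nat.coprime_two_right.1 (H77.PPAb.coprime_card_sup
    (hW.trans (centralizer_le_normalizer_coreAt a))
    (Nat.coprime_two_right.2 hodd) (Nat.coprime_two_right.2 (odd_card_coreAt a)))
  have hPU : P a ≤ normalizer (U : Set G) := fun g hg => by
    obtain ⟨c, hc, k, hk, rfl⟩ := D.exists_cover ha ha1 hg
    refine mul_mem ?_ (le_normalizer (mem_sup_right hk))
    have hcC : c ∈ centralizer ({a} : Set G) := D.P_le a ha ha1 hc.1
    refine Coprime.mem_normalizer_of_map_conj ?_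
    rw [hUdef, Subgroup.map_sup, Coprime.map_conj_eq (hn ⟨hcC, hc.2⟩),
      Coprime.map_conj_eq (centralizer_le_normalizer_coreAt a hcC)]
  have hUP : ⁅U, P a⁆ ≤ coreAt a := by
    refine D.oddN a ha ha1 _ ?_ ?_ ?_
    · exact le_normalizer_iff_commutator_le_right.1 (hUC.trans (D.P_norm a ha ha1))
    · exact Odd.of_dvd_nat hU (card_dvd_of_le (le_normalizer_iff_commutator_le_left.1 hPU))
    · exact fun g hg => Coprime.mem_normalizer_commutator (hPU hg) (le_normalizer hg)
  exact le_inf (fun w hw => mem_relCentralizer.2 ⟨centralizer_le_normalizer_coreAt a (hW hw),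
    fun h hh => hUP (commutator_mem_commutator (mem_sup_left hw) hh)⟩) hW

/-- `[C, A]` is trivial on `P f` when this holds for the fixed points of `x`. -/
theorem comm_le_trivOn {f : G} (hf : f ∈ A) (hf1 : f ≠ 1) {C : Subgroup G}
    (hC : C ≤ centralizer ({f} : Set G)) (hodd : Odd (Nat.card C))
    (hx : x ∈ normalizer (C : Set G))
    (h : ⁅C ⊓ centralizer ({x} : Set G), A⁆ ≤ trivOn P f) : ⁅C, A⁆ ≤ trivOn P f := by
  have hT := centralizer_le_normalizer_trivOn (D.P_norm f hf hf1)
  have hxC : zpowers x ≤ normalizer (C : Set G) := zpowers_le.2 hx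
  have h1 : ⁅C, zpowers x⁆ ≤ trivOn P f :=
    (commutator_mono le_rfl (zpowers_le.2 (D.x_mem f hf hf1))).trans
      (le_normalizer_iff_commutator_le_right.1 (hC.trans hT))
  set U := relCentralizer (trivOn P f) A
  have h2 : C ≤ U := by
    rw [← Coprime.commutator_sup_centralizer hxC (D.coprime_zpowers_x hodd)
      (Or.inl (Coprime.isSolvable_zpowers x))]
    refine sup_le (fun y hy => ?_) fun y hy => ?_
    · have hyC : y ∈ centralizer ({f} : Set G) :=
        hC (Coprime.commutator_le_left_of_normalizer hxC hy)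
      refine mem_relCentralizer.2 ⟨hT hyC, fun a ha => ?_⟩
      rw [commutatorElement_def]
      have h3 := Coprime.conj_mem (hT (D.le_cent hf ha)) (inv_mem (h1 hy))
      simpa [mul_assoc] using mul_mem (h1 hy) h3
    · have hyx : y ∈ C ⊓ centralizer ({x} : Set G) :=
        ⟨hy.1, mem_centralizer_singleton_iff.2 (mem_centralizer_iff.1 hy.2 x (mem_zpowers x)).symm⟩
      exact mem_relCentralizer.2 ⟨hT (hC hy.1), fun a ha => h (commutator_mem_commutator hyx ha)⟩
  exact Coprime.commutator_le_of_le_relCentralizer h2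

theorem core_x_inf_le {f : G} (hf : f ∈ A) (hf1 : f ≠ 1) :
    coreAt x ⊓ centralizer ({f} : Set G) ≤ trivOn P f :=
  D.le_trivOn hf hf1 inf_le_right (Odd.of_dvd_nat (odd_card_coreAt x) (card_dvd_of_le inf_le_left))
    (le_normalizer_inf (fun _ hg => centralizer_le_normalizer_coreAt x hg.2)
      (fun _ hg => le_normalizer hg.1))

/-- The commutators with `A` of the part of an odd normal subgroup of `C(z) ∩ C(x)`. -/
theorem comm_x_part {b : G} (hb : b ∈ A) (hb1 : b ≠ 1) {f : G} (hf : f ∈ A) (hf1 : f ≠ 1)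
    {W : Subgroup G} (hW : W ≤ centralizer ({x} : Set G) ⊓ centralizer ({b} : Set G))
    (hodd : Odd (Nat.card W))
    (hn : centralizer ({x} : Set G) ⊓ centralizer ({b} : Set G) ≤ normalizer (W : Set G)) :
    ⁅W ⊓ centralizer ({f} : Set G), A⁆ ≤ trivOn P f := by
  refine le_trans (le_inf ?_ ?_) (D.core_x_inf_le hf hf1)
  · exact (commutator_mono inf_le_left le_rfl).trans (D.coreX b hb hb1 W hW hodd hn)
  · exact commutator_le.2 fun w hw a ha => by
      rw [commutatorElement_def]
      exact mul_mem (mul_mem (mul_mem hw.2 (D.le_cent hf ha)) (inv_mem hw.2))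
        (inv_mem (D.le_cent hf ha))

theorem A_le_normalizer_inf {y f : G} (hy : y ∈ centralizer (A : Set G)) (hf : f ∈ A) :
    A ≤ normalizer ((coreAt y ⊓ centralizer ({f} : Set G) : Subgroup G) : Set G) :=
  fun a ha => inf_normalizer_le_normalizer_inf
    ⟨centralizer_le_normalizer_coreAt y (mem_centralizer_singleton_iff.2
      (mem_centralizer_iff.1 hy a ha)), le_normalizer (D.le_cent hf ha)⟩

/-- The cores are balanced on `A`. -/
theorem balance {e f : G} (he : e ∈ A) (he1 : e ≠ 1) (hf : f ∈ A) (hf1 : f ≠ 1) :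
    coreAt e ⊓ centralizer ({f} : Set G) ≤ coreAt f := by
  by_cases hef : e ∈ zpowers f
  · have h : e = f := by
      obtain ⟨i, hi⟩ := mem_zpowers_iff.1 hef
      have h2 : f ^ (2 : ℤ) = 1 := by
        rw [zpow_two, ← pow_two]; exact D.elem.2 f hf
      rcases Int.even_or_odd i with ⟨j, rfl⟩ | ⟨j, rfl⟩
      · exact absurd (by rw [← hi, ← two_mul, zpow_mul, h2, one_zpow]) he1
      · rw [← hi, zpow_add_one, zpow_mul, h2, one_zpow, one_mul]
    rw [h]; exact inf_le_left
  set C := coreAt e ⊓ centralizer ({f} : Set G)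
  have hodd : Odd (Nat.card C) := Odd.of_dvd_nat (odd_card_coreAt e) (card_dvd_of_le inf_le_left)
  refine D.crit f hf hf1 e he hef C inf_le_right hodd (le_normalizer_inf (fun g hg => centralizer_le_normalizer_coreAt e hg.2) (fun g hg => le_normalizer hg.1)) ?_
  refine D.comm_le_trivOn hf hf1 inf_le_right hodd (inf_normalizer_le_normalizer_inf
    ⟨centralizer_le_normalizer_coreAt e (D.x_mem_cent he), le_normalizer (D.x_mem_cent hf)⟩) ?_
  rw [inf_right_comm]
  refine D.comm_x_part he he1 hf hf1 (le_inf inf_le_right (inf_le_left.trans (coreAt_le e)))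
    (Odd.of_dvd_nat (odd_card_coreAt e) (card_dvd_of_le inf_le_left)) (le_normalizer_inf (fun g hg => centralizer_le_normalizer_coreAt e hg.2) (fun g hg => le_normalizer hg.1))

theorem isFunctor : Cfsg.IsSolvableSignalizerFunctor 2 A (fun a => coreAt a) := by
  refine ⟨⟨fun a _ _ => coreAt_le a, fun a _ _ => not_two_dvd_coreAt a,
    fun a ha _ b hb y hy => ?_, fun a ha ha1 b hb hb1 => D.balance ha ha1 hb hb1⟩,
    fun a _ _ => S0205.result (odd_card_coreAt a)⟩
  exact H85.ElemEight.conj_mem_coreAt (D.le_cent ha hb) hy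

omit [Finite G] D in
/-- The closure of the cores. -/
noncomputable abbrev closureK (A : Subgroup G) : Subgroup G :=
  Cfsg.signalizerClosure A fun a => coreAt a

theorem closure_spec :
    ¬ 2 ∣ Nat.card ↥(closureK A) ∧ ∀ a ∈ A, a ≠ 1 →
      closureK A ⊓ centralizer ({a} : Set G) = coreAt a := by
  obtain ⟨h1, -, h3⟩ := Signalizer.closure_spec_of_closed (Signalizer.twoColourClosed 2) (A := A)
    D.elem (by rw [D.card]; norm_num) D.isFunctor
  exact ⟨h1, h3⟩

theorem core_le_closure {a : G} (ha : a ∈ A) (ha1 : a ≠ 1) : coreAt a ≤ closureK A :=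
  le_iSup (fun c : {c : G // c ∈ A ∧ c ≠ 1} => coreAt (c : G)) ⟨a, ha, ha1⟩

theorem normalizer_le_normalizer_closure :
    normalizer (A : Set G) ≤ normalizer (closureK A : Set G) := by
  rw [le_normalizer_iff]
  intro n hn w hw
  have : closureK A ≤ (closureK A).comap (MulAut.conj n).toMonoidHom := iSup_le fun a => by
    intro k hk
    refine Subgroup.mem_comap.2 (D.core_le_closure (a := n * a * n⁻¹)
      ((mem_normalizer_iff.1 hn _).1 a.2.1) (fun h => a.2.2 (by simpa using h)) ?_)
    simpa using conj_coreAt n hk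
  simpa using this hw

theorem A_le_normalizer_closure : A ≤ normalizer (closureK A : Set G) :=
  le_normalizer.trans D.normalizer_le_normalizer_closure

theorem centralizer_le_normalizer_closure :
    centralizer (A : Set G) ≤ normalizer (closureK A : Set G) :=
  (centralizer_le_normalizer _).trans D.normalizer_le_normalizer_closure

theorem closure_odd : Odd (Nat.card ↥(closureK A)) :=
  Nat.not_even_iff_odd.1 fun h => D.closure_spec.1 h.two_dvd

/-- `[O(C(y)), A]` lies in the closure, for `y = x` and `y = ex`. -/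
theorem comm_core_le_closure {e y : G} (he : e ∈ A) (he1 : e ≠ 1) (hy : y = x ∨ y = e * x) :
    ⁅coreAt y, A⁆ ≤ closureK A := by
  have hyA : y ∈ centralizer (A : Set G) := by
    rcases hy with rfl | rfl
    · exact D.x_cent
    · exact mul_mem (mem_centralizer_iff.2 fun a ha => (D.comm ha he).eq) D.x_cent
  set U := relCentralizer (closureK A) A
  suffices h : coreAt y ≤ U from Coprime.commutator_le_of_le_relCentralizer h
  have hAy : A ≤ normalizer (coreAt y : Set G) := fun a ha =>
    centralizer_le_normalizer_coreAt y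
      (mem_centralizer_singleton_iff.2 (mem_centralizer_iff.1 hyA a ha))
  haveI : IsMulCommutative A := D.elem.1
  refine Coprime.le_of_centralizer_noncyclic_le D.not_cyclic hAy
    (D.coprime_A (odd_card_coreAt y)) fun f hf hf1 => ?_
  set C := coreAt y ⊓ centralizer ({f} : Set G)
  have hodd : Odd (Nat.card C) := Odd.of_dvd_nat (odd_card_coreAt y) (card_dvd_of_le inf_le_left)
  have hxy : x ∈ centralizer ({y} : Set G) := mem_centralizer_singleton_iff.2 <| by
    rcases hy with rfl | rfl
    · rfl
    · rw [← mul_assoc, (D.x_comm he).symm.eq, mul_assoc]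
  have hT : ⁅C, A⁆ ≤ trivOn P f := by
    refine D.comm_le_trivOn hf hf1 inf_le_right hodd (inf_normalizer_le_normalizer_inf
      ⟨centralizer_le_normalizer_coreAt y hxy, le_normalizer (D.x_mem_cent hf)⟩) ?_
    rcases hy with rfl | rfl
    · refine le_trans (commutator_mono (inf_le_left.trans (D.core_x_inf_le hf hf1)) le_rfl) ?_
      exact le_normalizer_iff_commutator_le_left.1 ((D.le_cent hf).trans
        (centralizer_le_normalizer_trivOn (D.P_norm f hf hf1)))
    · rw [inf_right_comm]
      have hCx : centralizer ({x} : Set G) ⊓ centralizer ({e} : Set G) ≤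
          centralizer ({e * x} : Set G) := fun g hg => mem_centralizer_singleton_iff.2
        (Commute.mul_right (mem_centralizer_singleton_iff.1 hg.2)
          (mem_centralizer_singleton_iff.1 hg.1)).eq
      refine D.comm_x_part he he1 hf hf1 (fun g hg => ⟨hg.2, ?_⟩)
        (Odd.of_dvd_nat (odd_card_coreAt _) (card_dvd_of_le inf_le_left)) (le_normalizer_inf (fun g hg => centralizer_le_normalizer_coreAt _ (hCx hg)) (fun g hg => le_normalizer hg.1))
      have h1 : Commute g (e * x) := mem_centralizer_singleton_iff.1 (coreAt_le _ hg.1)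
      have h2 : Commute g x := mem_centralizer_singleton_iff.1 hg.2
      have h3 := h1.mul_right h2.inv_right
      rw [mul_inv_cancel_right] at h3
      exact mem_centralizer_singleton_iff.2 h3.eq
  have hK : ⁅C, A⁆ ≤ coreAt f := by
    refine commutator_le.2 fun c hc v hv => ?_
    obtain ⟨z, hz, p, hp, hvzp⟩ := (Coprime.mem_sup_iff (inf_le_left.trans (fun a ha =>
      centralizer_le_normalizer _ (fun w hw => (D.comm (zpowers_le.2 hf hw) ha).eq)))).1
        (D.split f hf hf1 hv)
    have hcz : Commute c z := by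
      obtain ⟨i, rfl⟩ := mem_zpowers_iff.1 hz
      exact (show Commute c f from mem_centralizer_singleton_iff.1 hc.2).zpow_right i
    have heq : ⁅c, v⁆ = z * ⁅c, p⁆ * z⁻¹ := by
      rw [← hvzp]
      simp only [commutatorElement_def, mul_inv_rev, ← mul_assoc, hcz.eq]
    rw [heq]
    refine Coprime.conj_mem (centralizer_le_normalizer_coreAt f
      (D.le_cent hf (zpowers_le.2 hf hz))) (D.inf_triv f hf hf1 ⟨?_, ?_⟩)
    · exact le_normalizer_iff_commutator_le_right.1 (inf_le_right.trans (D.P_norm f hf hf1))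
        (commutator_mem_commutator hc hp.2)
    · exact hT (commutator_mem_commutator hc hp.1)
  have hAC : A ≤ normalizer (C : Set G) := D.A_le_normalizer_inf hyA hf
  rw [← Coprime.commutator_sup_centralizer hAC (D.coprime_A hodd)
      (Or.inl Coprime.isSolvable_of_isMulCommutative)]
  refine sup_le (fun c hc => ?_) fun c hc => ?_
  · have hcW : c ∈ closureK A := D.core_le_closure hf hf1 (hK hc)
    refine mem_relCentralizer.2 ⟨le_normalizer hcW, fun a ha => ?_⟩
    rw [commutatorElement_def]
    have h3 := Coprime.conj_mem (D.A_le_normalizer_closure ha) (inv_mem hcW)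
    simpa [mul_assoc] using mul_mem hcW h3
  · refine mem_relCentralizer.2 ⟨D.centralizer_le_normalizer_closure hc.2, fun a ha => ?_⟩
    rw [commutatorElement_eq_one_iff_mul_comm.2 (mem_centralizer_iff.1 hc.2 a ha).symm]
    exact one_mem _

/-- `[C_K(x), A]` lies in the core of `C(x)`. -/
theorem comm_closure_x : ⁅closureK A ⊓ centralizer ({x} : Set G), A⁆ ≤ coreAt x := by
  set V := closureK A ⊓ centralizer ({x} : Set G)
  suffices h : V ≤ relCentralizer (coreAt x) A from Coprime.commutator_le_of_le_relCentralizer h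
  have hodd : Odd (Nat.card V) := Odd.of_dvd_nat D.closure_odd (card_dvd_of_le inf_le_left)
  have hAV : A ≤ normalizer (V : Set G) := fun a ha => inf_normalizer_le_normalizer_inf
    ⟨D.A_le_normalizer_closure ha,
      le_normalizer (mem_centralizer_singleton_iff.2 (D.x_comm ha).eq)⟩
  haveI : IsMulCommutative A := D.elem.1
  refine Coprime.le_of_centralizer_noncyclic_le D.not_cyclic hAV (D.coprime_A hodd)
    fun f hf hf1 => ?_
  have h1 : ⁅coreAt f ⊓ centralizer ({x} : Set G), A⁆ ≤ coreAt x :=
    D.coreX f hf hf1 _ (le_inf inf_le_right (inf_le_left.trans (coreAt_le f)))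
      (Odd.of_dvd_nat (odd_card_coreAt f) (card_dvd_of_le inf_le_left)) (le_normalizer_inf (fun g hg => centralizer_le_normalizer_coreAt f hg.2) (fun g hg => le_normalizer hg.1))
  intro c hc
  have hc' : c ∈ coreAt f ⊓ centralizer ({x} : Set G) :=
    ⟨(D.closure_spec.2 f hf hf1).le ⟨hc.1.1, hc.2⟩, hc.1.2⟩
  exact mem_relCentralizer.2 ⟨centralizer_le_normalizer_coreAt x hc.1.2,
    fun a ha => h1 (commutator_mem_commutator hc' ha)⟩

theorem not_cyclic_four {e : G} (he : e ∈ A) (he1 : e ≠ 1) :
    ¬ IsCyclic ↥(zpowers e ⊔ zpowers x) := by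
  classical
  intro hc
  have he2 : e ^ 2 = 1 := D.elem.2 e he
  have hx2 : x ^ 2 = 1 := by rw [← D.x_two]; exact pow_orderOf_eq_one x
  set B := zpowers e ⊔ zpowers x
  letI := Fintype.ofFinite ↥B
  have h := IsCyclic.card_pow_eq_one_le (α := ↥B) (n := 2) two_pos
  have hx1 : x ≠ 1 := fun h0 => by have := D.x_two; rw [h0, orderOf_one] at this; omega
  have hne : e ≠ x := fun h0 => D.x_not (h0 ▸ he)
  let e' : ↥B := ⟨e, mem_sup_left (mem_zpowers e)⟩
  let x' : ↥B := ⟨x, mem_sup_right (mem_zpowers x)⟩
  have h3 : ({1, e', x'} : Finset ↥B) ⊆ Finset.univ.filter fun b : ↥B => b ^ 2 = 1 := by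
    intro b hb
    simp only [Finset.mem_insert, Finset.mem_singleton] at hb
    simp only [Finset.mem_filter, Finset.mem_univ, true_and]
    rcases hb with rfl | rfl | rfl
    exacts [one_pow _, Subtype.ext he2, Subtype.ext hx2]
  have h4 : ({1, e', x'} : Finset ↥B).card = 3 := by
    simp [e', x', Subtype.ext_iff, Ne.symm he1, Ne.symm hx1, hne]
  have h5 := Finset.card_le_card h3
  omega

/-- `C(e) ∩ C(x)` normalises the closure. -/
theorem inf_le_normalizer_closure {e : G} (he : e ∈ A) (he1 : e ≠ 1) :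
    centralizer ({e} : Set G) ⊓ centralizer ({x} : Set G) ≤ normalizer (closureK A : Set G) := by
  set K := closureK A
  set N := coreAt e ⊔ ⁅coreAt x, zpowers e⁆ ⊔ ⁅coreAt (e * x), zpowers e⁆
  have hNK : N ≤ K := sup_le (sup_le (D.core_le_closure he he1)
    ((commutator_mono le_rfl (zpowers_le.2 he)).trans (D.comm_core_le_closure he he1 (.inl rfl))))
    ((commutator_mono le_rfl (zpowers_le.2 he)).trans (D.comm_core_le_closure he he1 (.inr rfl)))
  have hxK : x ∈ normalizer (K : Set G) := D.centralizer_le_normalizer_closure D.x_cent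
  have heK : e ∈ normalizer (K : Set G) := D.A_le_normalizer_closure he
  -- fixed points of an element of the four group
  have key : ∀ z : G, Commute e z → z ∈ normalizer (K : Set G) →
      ⁅K ⊓ centralizer ({z} : Set G), zpowers e⁆ ≤ coreAt z →
      ⁅coreAt z, zpowers e⁆ ≤ N → K ⊓ centralizer ({z} : Set G) ≤ N := by
    intro z hez hzK h1 h2
    set V := K ⊓ centralizer ({z} : Set G)
    have heV : zpowers e ≤ normalizer (V : Set G) := zpowers_le.2
      (inf_normalizer_le_normalizer_inf
        ⟨heK, le_normalizer (mem_centralizer_singleton_iff.2 hez.eq)⟩)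
    have hc := D.coprime_zpowers he (Odd.of_dvd_nat D.closure_odd (card_dvd_of_le inf_le_left) :
      Odd (Nat.card V))
    rw [← Coprime.commutator_sup_centralizer heV hc (Or.inl (Coprime.isSolvable_zpowers e)),
      ← Coprime.commutator_commutator_eq heV hc (Or.inl (Coprime.isSolvable_zpowers e))]
    refine sup_le ((commutator_mono h1 le_rfl).trans h2) fun c hc' => ?_
    refine le_sup_left (b := ⁅coreAt (e * x), zpowers e⁆) (le_sup_left
      (b := ⁅coreAt x, zpowers e⁆) ((D.closure_spec.2 e he he1).le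
        ⟨hc'.1.1, mem_centralizer_singleton_iff.2
          (mem_centralizer_iff.1 hc'.2 e (mem_zpowers e)).symm⟩))
  have hKN : K ≤ N := by
    have hex : Commute e x := D.x_comm he
    haveI : IsMulCommutative ↥(zpowers e ⊔ zpowers x) := by
      refine ⟨⟨fun p q => Subtype.ext ?_⟩⟩
      have hcent : ∀ r ∈ zpowers e ⊔ zpowers x, r ∈ centralizer
          ((zpowers e ⊔ zpowers x : Subgroup G) : Set G) := by
        intro r hr
        have h1 : zpowers e ⊔ zpowers x ≤ centralizer ({e, x} : Set G) := by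
          refine sup_le (zpowers_le.2 ?_) (zpowers_le.2 ?_) <;>
            refine mem_centralizer_iff.2 fun s hs => ?_ <;>
            rcases hs with rfl | rfl
          · rfl
          · exact hex.symm.eq
          · exact hex.eq
          · rfl
        refine mem_centralizer_iff.2 fun s hs => ?_
        have h2 : zpowers e ⊔ zpowers x ≤ centralizer ({r} : Set G) := by
          refine sup_le (zpowers_le.2 ?_) (zpowers_le.2 ?_) <;>
            refine mem_centralizer_singleton_iff.2 ?_
          · exact mem_centralizer_iff.1 (h1 hr) e (Or.inl rfl)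
          · exact mem_centralizer_iff.1 (h1 hr) x (Or.inr rfl)
        exact mem_centralizer_singleton_iff.1 (h2 hs)
      exact mem_centralizer_iff.1 (hcent q q.2) p p.2
    refine Coprime.le_of_centralizer_noncyclic_le (D.not_cyclic_four he he1)
      (sup_le (zpowers_le.2 heK) (zpowers_le.2 hxK)) ?_ fun z hz hz1 => ?_
    · refine (Nat.Coprime.coprime_dvd_left (H77.PPAb.card_sup_dvd_of_normalizes ?_) ?_)
      · exact zpowers_le.2 (centralizer_le_normalizer _ (fun w hw => by
          obtain ⟨i, rfl⟩ := mem_zpowers_iff.1 hw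
          exact (hex.symm.zpow_left i).eq))
      · exact Nat.Coprime.mul_left (D.coprime_zpowers he D.closure_odd)
          (D.coprime_zpowers_x D.closure_odd)
    have hcases : z = e ∨ z = x ∨ z = e * x := by
      obtain ⟨a, ha, b, hb, rfl⟩ := (Coprime.mem_sup_iff (zpowers_le.2
        (centralizer_le_normalizer _ (fun w hw => by
          obtain ⟨i, rfl⟩ := mem_zpowers_iff.1 hw
          exact (hex.zpow_left i).eq)))).1 hz
      have he' : e * e = 1 := by rw [← pow_two]; exact D.elem.2 e he
      have hx' : x * x = 1 := by rw [← pow_two, ← D.x_two]; exact pow_orderOf_eq_one x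
      have hpow : ∀ {w r : G}, w * w = 1 → r ∈ zpowers w → r = 1 ∨ r = w := by
        intro w r hw hr
        obtain ⟨i, rfl⟩ := mem_zpowers_iff.1 hr
        have h2 : w ^ (2 : ℤ) = 1 := by rw [zpow_two]; exact hw
        rcases Int.even_or_odd i with ⟨j, rfl⟩ | ⟨j, rfl⟩
        · exact Or.inl (by rw [← two_mul, zpow_mul, h2, one_zpow])
        · exact Or.inr (by rw [zpow_add_one, zpow_mul, h2, one_zpow, one_mul])
      rcases hpow he' ha with rfl | rfl <;> rcases hpow hx' hb with rfl | rfl
      · exact absurd (mul_one 1) hz1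
      · exact Or.inr (Or.inl (one_mul _))
      · exact Or.inl (mul_one _)
      · exact Or.inr (Or.inr rfl)
    rcases hcases with rfl | rfl | rfl
    · exact ((D.closure_spec.2 z he he1).le.trans (le_sup_left.trans le_sup_left))
    · exact key z hex hxK ((commutator_mono le_rfl (zpowers_le.2 he)).trans D.comm_closure_x)
        (le_sup_right.trans le_sup_left)
    · refine key _ (Commute.mul_right (Commute.refl e) hex) (mul_mem heK hxK) ?_ le_sup_right
      refine commutator_le.2 fun g hg y hy => ?_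
      obtain ⟨i, rfl⟩ := mem_zpowers_iff.1 hy
      have he' : e ^ (2 : ℤ) = 1 := by rw [zpow_two, ← pow_two]; exact D.elem.2 e he
      rcases Int.even_or_odd i with ⟨j, rfl⟩ | ⟨j, rfl⟩
      · rw [← two_mul, zpow_mul, he', one_zpow, commutatorElement_one_right]
        exact one_mem _
      · rw [zpow_add_one, zpow_mul, he', one_zpow, one_mul]
        exact D.exc e he he1 g hg.2
  intro g hg
  rw [le_antisymm hKN hNK]
  have hge : g ∈ normalizer (zpowers e : Set G) := centralizer_le_normalizer _ <| by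
    refine mem_centralizer_iff.2 fun w hw => ?_
    obtain ⟨i, rfl⟩ := mem_zpowers_iff.1 hw
    exact ((show Commute g e from mem_centralizer_singleton_iff.1 hg.1).zpow_right i).symm.eq
  have hgx : ∀ y ∈ ({x, e * x} : Set G), g ∈ centralizer ({y} : Set G) := by
    rintro y (rfl | rfl)
    · exact hg.2
    · exact mem_centralizer_singleton_iff.2 (Commute.mul_right
        (mem_centralizer_singleton_iff.1 hg.1) (mem_centralizer_singleton_iff.1 hg.2)).eq
  have hs : ∀ {H₁ H₂ : Subgroup G}, g ∈ normalizer (H₁ : Set G) → g ∈ normalizer (H₂ : Set G) →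
      g ∈ normalizer ((H₁ ⊔ H₂ : Subgroup G) : Set G) := fun h1 h2 =>
    Coprime.mem_normalizer_of_map_conj (by
      rw [Subgroup.map_sup, Coprime.map_conj_eq h1, Coprime.map_conj_eq h2])
  exact hs (hs (centralizer_le_normalizer_coreAt e hg.1)
    (Coprime.mem_normalizer_commutator
      (centralizer_le_normalizer_coreAt x (hgx x (Or.inl rfl))) hge))
    (Coprime.mem_normalizer_commutator
      (centralizer_le_normalizer_coreAt _ (hgx _ (Or.inr rfl))) hge)

theorem centralizer_le_normalizer_closure' {e : G} (he : e ∈ A) (he1 : e ≠ 1) :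
    centralizer ({e} : Set G) ≤ normalizer (closureK A : Set G) := by
  refine (D.frat e he he1).trans (sup_le (fun g hg => ?_)
    (inf_le_left.trans D.normalizer_le_normalizer_closure))
  obtain ⟨c, hc, k, hk, rfl⟩ := D.exists_cover he he1 hg
  exact mul_mem (D.inf_le_normalizer_closure he he1 ⟨D.P_le e he he1 hc.1, hc.2⟩)
    (le_normalizer (D.core_le_closure he he1 hk))

/-- The configuration is impossible. -/
theorem contra : False := by
  haveI := D.simple
  have hnormal : ∀ {H : Subgroup G}, normalizer (H : Set G) = ⊤ → H = ⊥ ∨ H = ⊤ := fun h =>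
    IsSimpleGroup.eq_bot_or_eq_top_of_normal _ (normalizer_eq_top_iff.1 h)
  rcases hnormal (D.gen _ fun a ha ha1 => D.centralizer_le_normalizer_closure' ha ha1) with h | h
  swap
  · refine D.closure_spec.1 ?_
    rw [h, Subgroup.card_top]
    exact dvd_trans (by rw [D.card]; norm_num) (card_subgroup_dvd_card A)
  have hK : ∀ a ∈ A, a ≠ 1 → coreAt a = ⊥ := fun a ha ha1 =>
    le_bot_iff.1 ((D.core_le_closure ha ha1).trans h.le)
  set H : Subgroup G := ⨆ a : {a : G // a ∈ A ∧ a ≠ 1}, P (a : G)
  have hNH : normalizer (A : Set G) ≤ normalizer (H : Set G) := by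
    rw [le_normalizer_iff]
    intro n hn w hw
    have : H ≤ H.comap (MulAut.conj n).toMonoidHom := iSup_le fun a => by
      intro g hg
      refine Subgroup.mem_comap.2 ((le_iSup (fun c : {c : G // c ∈ A ∧ c ≠ 1} => P (c : G))
        ⟨n * a * n⁻¹, (mem_normalizer_iff.1 hn _).1 a.2.1,
          fun h => a.2.2 (by simpa using h)⟩) ?_)
      simpa using D.P_conj n hn a a.2.1 a.2.2 g hg
    simpa using this hw
  have hHx : H ≤ centralizer ({x} : Set G) := iSup_le fun a g hg => by
    obtain ⟨c, hc, k, hk, rfl⟩ := D.exists_cover a.2.1 a.2.2 hg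
    rw [hK a a.2.1 a.2.2, mem_bot] at hk
    rw [hk, mul_one]
    exact hc.2
  rcases hnormal (D.gen _ fun a ha ha1 => (D.frat a ha ha1).trans (sup_le
      ((le_iSup (fun c : {c : G // c ∈ A ∧ c ≠ 1} => P (c : G)) ⟨a, ha, ha1⟩).trans le_normalizer)
      (inf_le_left.trans hNH))) with hH | hH
  · obtain ⟨a, ha, ha1⟩ : ∃ a ∈ A, a ≠ 1 := by
      by_contra hc
      push Not at hc
      have hA : A = ⊥ := (eq_bot_iff_forall A).2 hc
      have := D.card
      rw [hA, card_bot] at this
      omega
    have h1 : A ≤ zpowers a := (D.split a ha ha1).trans (sup_le le_rfl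
      ((inf_le_right.trans (le_iSup (fun c : {c : G // c ∈ A ∧ c ≠ 1} => P (c : G))
        ⟨a, ha, ha1⟩)).trans (hH.le.trans bot_le)))
    exact D.not_cyclic (isCyclic_of_le h1)
  · have hxc : x ∈ center G := mem_center_iff.2 fun g =>
      mem_centralizer_singleton_iff.1 (hHx (le_of_eq hH.symm (mem_top g)))
    rcases IsSimpleGroup.eq_bot_or_eq_top_of_normal (center G) inferInstance with hz | hz
    · rw [hz, mem_bot] at hxc
      have := D.x_two
      rw [hxc, orderOf_one] at this
      omega
    · have hAn : A.Normal := ⟨fun a ha g => by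
        have hg : g ∈ center G := hz.symm ▸ mem_top g
        rw [← mem_center_iff.1 hg a, mul_inv_cancel_right]
        exact ha⟩
      rcases IsSimpleGroup.eq_bot_or_eq_top_of_normal A hAn with hA | hA
      · have := D.card
        rw [hA, card_bot] at this
        omega
      · exact D.x_not (hA.symm ▸ mem_top x)

end Data

end Cfsg.Agent.H77.StrongThree
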